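import Cfsg.Agent.H6.Co3.P.K

set_option autoImplicit false
set_option maxRecDepth 100000
set_option Elab.async false

namespace Cfsg.H6.Co3.DW

def c0 : Clm := ⟨0, 0, false, [], [1], 0, [], []⟩
def c1 : Clm := ⟨0, 0, false, [], [3], 0, [], []⟩
def c2 : Clm := ⟨0, 0, false, [], [5], 0, [], []⟩
def c3 : Clm := ⟨0, 0, false, [], [7], 0, [], []⟩
def c4 : Clm := ⟨0, 0, false, [], [9], 0, [], []⟩
def c5 : Clm := ⟨0, 0, false, [], [11], 0, [], []⟩
def c6 : Clm := ⟨0, 0, false, [], [13], 0, [], []⟩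
def c7 : Clm := ⟨0, 1, true, [], [], 1, [], []⟩
def c8 : Clm := ⟨1, 0, true, [], [], 5, [([], 7, [])], []⟩
def c9 : Clm := ⟨1, 1, false, [], [15,18,26,19], 3, [([], 7, []), ([7,5,9,13,8,4,6], 7, [16,20,24,21])], []⟩
def c10 : Clm := ⟨1, 1, false, [], [15,26], 3, [([], 7, []), ([11,9,3,8,10], 7, [16,24])], []⟩
def c11 : Clm := ⟨1, 1, false, [], [19,20,24,27,28,19,20], 3, [([], 7, []), ([7,5,9,11,13,3,4,6,8,10], 7, [18,21,24,27,28,18,21])], []⟩
def c12 : Clm := ⟨1, 1, false, [], [15,16,22], 3, [([], 7, []), ([1,11,9,12,10], 7, [22])], []⟩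
def c13 : Clm := ⟨1, 1, false, [], [15,16,21,22], 3, [([], 7, []), ([11,9,7,5,7,12,10,4,6], 7, [19,22])], []⟩
def c14 : Clm := ⟨1, 1, true, [16,22,1], [1], 7, [([], 7, []), ([0], 8, [16,22])], []⟩
def c15 : Clm := ⟨1, 2, true, [8,6,4,8], [], 1, [], []⟩
def c16 : Clm := ⟨2, 1, true, [], [15,7,3,5,7], 5, [([], 15, [])], []⟩
def c17 : Clm := ⟨2, 2, false, [], [21,22,24,21,26,29,18], 3, [([], 15, []), ([25,21,24], 15, [19,22,24,20,26,29,19])], []⟩
def c18 : Clm := ⟨2, 2, false, [], [20,24,26,29,21,24], 3, [([], 15, []), ([23,25,27,22,25,23,26,24,22], 15, [18,24,26,28,19,26])], []⟩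
def c19 : Clm := ⟨2, 2, true, [16,22,1], [20,22,24,26,29,18,1], 7, [([], 15, []), ([24,26,23,26,24,22], 16, [20,24,27,29,19])], []⟩
def c20 : Clm := ⟨2, 2, true, [20,22,24,26,29,18,1], [16,22,1], 5, [([], 19, [])], []⟩
def c21 : Clm := ⟨2, 2, true, [27,29,21,11,21,7,28], [22,28,19,20,25,27,11,21,7,26], 9, [([], 15, [18]), ([], 7, [29,20,24]), ([10,12,8,10,6,8,4,6], 8, [21,26,28,21]), ([22], 16, [29,20,25])], []⟩
def c22 : Clm := ⟨2, 2, true, [22,28,19,20,25,27,11,21,7,26], [27,29,21,11,21,7,28], 5, [([], 21, [])], []⟩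
def c23 : Clm := ⟨2, 2, true, [19,21,25,20,26,11,21,7,26], [22,25,21,27,18,11,21,7,26], 9, [([], 20, [21,22,24,21,26,19,29]), ([], 22, [21,24,20]), ([], 15, [18,22,24,26,28,18,21]), ([23,18], 16, [18,20,24,21,27])], []⟩
def c24 : Clm := ⟨2, 2, true, [22,25,21,27,18,11,21,7,26], [19,21,25,20,26,11,21,7,26], 5, [([], 23, [])], []⟩
def c25 : Clm := ⟨2, 2, false, [19,21,25,20,26,11,21,7,26], [20,22,24,21,26,28,7,3,5,7,30], 3, [([], 24, []), ([36,34], 21, [18,21,22,24])], []⟩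
def c26 : Clm := ⟨2, 1, false, [20,22,24,26,29,18,1], [18,21,22,26,29,19,7,18,20,11], 3, [([], 19, []), ([51,36,50], 16, [22,24,27,18,28])], []⟩
def c27 : Clm := ⟨1, 3, true, [8], [], 1, [], []⟩
def c28 : Clm := ⟨3, 1, true, [], [15,7], 5, [([], 27, [])], []⟩
def c29 : Clm := ⟨3, 3, false, [], [18,21,22,24,26,28,19,20], 3, [([], 27, []), ([25,22], 27, [19,20,22,24,26,28,18,21])], []⟩
def c30 : Clm := ⟨3, 3, false, [], [19,22,24], 3, [([], 27, []), ([18,27,19], 27, [15,21,22,27])], []⟩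
def c31 : Clm := ⟨3, 3, false, [], [18,22,26,28,19,20,24], 3, [([], 27, []), ([22,21,27,25,22,26,22], 27, [19,22,24,26,28,20,25])], []⟩
def c32 : Clm := ⟨1, 4, true, [12,8,6,4,8], [], 1, [], []⟩
def c33 : Clm := ⟨4, 1, true, [], [7,3,5,7,11], 5, [([], 32, [])], []⟩
def c34 : Clm := ⟨4, 4, false, [], [18,21,24,20,27,19,29], 3, [([], 32, []), ([21,27,22,19,26,23,26], 32, [19,20,24,21,27,18,29])], []⟩
def c35 : Clm := ⟨4, 4, false, [], [20,22,24,28,21], 3, [([], 32, []), ([25,27,22,19,26,24,23,19], 32, [18,22,26,28,19])], []⟩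
def c36 : Clm := ⟨4, 4, true, [16,22,1], [18,22,24,27,29,18,1], 7, [([], 32, []), ([22,26,21], 33, [18,24,26,29,19])], []⟩
def c37 : Clm := ⟨4, 4, true, [18,22,24,27,29,18,1], [16,22,1], 5, [([], 36, [])], []⟩
def c38 : Clm := ⟨3, 5, true, [8,6,4,8], [], 1, [], []⟩
def c39 : Clm := ⟨5, 3, true, [], [15,7,3,5,7], 5, [([], 38, [])], []⟩
def c40 : Clm := ⟨5, 5, true, [16,22,1], [19,22,25,21,29,1], 7, [([], 38, []), ([62,60,62,58], 39, [19,25,20,29])], []⟩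
def c41 : Clm := ⟨5, 4, true, [24,27,29,21,11,21,7,28], [19,20,22,24,20,27,28,19,11,21,7,26], 9, [([], 38, [26,18]), ([], 27, [21,22,26,28,18]), ([18], 16, [18,22,24,29,19,27]), ([52,23,26,18], 33, [18,21,26,29,18])], []⟩
def c42 : Clm := ⟨4, 5, true, [19,20,22,24,20,27,28,19,11,21,7,26], [24,27,29,21,11,21,7,28], 5, [([], 41, [])], []⟩
def c43 : Clm := ⟨4, 5, true, [19,24,20,26,19,11,21,7,26], [18,21,22,24,27,29,19,20,11,21,7,26], 9, [([], 37, [19,22,24,21,27,29,19]), ([], 41, [15,19,27,18]), ([], 38, [20,22,25,28]), ([58,63,58], 39, [26,19,28,19])], []⟩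
def c44 : Clm := ⟨5, 5, false, [18,21,22,24,27,29,19,20,11,21,7,26], [15,18,20,28,7,3,18,7,30], 3, [([], 43, []), ([69], 43, [16,18,21,22])], []⟩
def c45 : Clm := ⟨4, 5, false, [19,20,22,24,20,27,28,19,11,21,7,26], [21,22,24,26,19,29,21,7,5,20,11], 3, [([], 41, []), ([88], 40, [18,20,24,21,26,29])], []⟩
def c46 : Clm := ⟨4, 3, true, [18,22,26,29,18,21,24,7,20,11,20], [15,7,3,5,7], 4, [([90], 39, [])], []⟩
def c47 : Clm := ⟨3, 3, false, [20,22,28,21,7,3,5,7,20], [21,22,24,21,26,18,28], 8, [([], 38, [20,22,28]), ([91], 36, [21,24,28,19,27]), ([68], 42, [18,21,22,24,27,29]), ([91,70,68], 42, [18,22,24,21,27,28,19]), ([91], 46, [18,20,22,24,20,27,29])], []⟩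
def c48 : Clm := ⟨1, 1, false, [15,7], [19,29,18,27,7,3,5,7], 3, [([], 28, []), ([95], 28, [20,22,24,20,28,18,26])], []⟩
def c49 : Clm := ⟨1, 0, false, [1], [19,21,22,24,20,27,18,1], 3, [([], 14, []), ([96,22,96,22,96], 8, [19,21,22,24,20,26,18])], []⟩
def c50 : Clm := ⟨0, 0, true, [], [19,21,22,24,20,27,18,1], 4, [([], 7, [])], [98]⟩

noncomputable def cl0 (y : ℕ) : Clm := (selA 8 y (selA 4 y (selA 2 y (selA 1 y c0 c1) (selA 3 y c2 c3)) (selA 6 y (selA 5 y c4 c5) (selA 7 y c6 c7))) (selA 12 y (selA 10 y (selA 9 y c8 c9) (selA 11 y c10 c11)) (selA 14 y (selA 13 y c12 c13) (selA 15 y c14 c15))))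

noncomputable def cl1 (y : ℕ) : Clm := (selA 24 y (selA 20 y (selA 18 y (selA 17 y c16 c17) (selA 19 y c18 c19)) (selA 22 y (selA 21 y c20 c21) (selA 23 y c22 c23))) (selA 28 y (selA 26 y (selA 25 y c24 c25) (selA 27 y c26 c27)) (selA 30 y (selA 29 y c28 c29) (selA 31 y c30 c31))))

noncomputable def cl2 (y : ℕ) : Clm := (selA 40 y (selA 36 y (selA 34 y (selA 33 y c32 c33) (selA 35 y c34 c35)) (selA 38 y (selA 37 y c36 c37) (selA 39 y c38 c39))) (selA 44 y (selA 42 y (selA 41 y c40 c41) (selA 43 y c42 c43)) (selA 46 y (selA 45 y c44 c45) (selA 47 y c46 c47))))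

noncomputable def cl3 (y : ℕ) : Clm := (selA 49 y c48 (selA 50 y c49 c50))

noncomputable def cl (y : ℕ) : Clm := (selA 32 y (selA 16 y (cl0 y) (cl1 y)) (selA 48 y (cl2 y) (cl3 y)))

def gwL : List (List ℕ) := [[], [32], [32,8,6,4,8,32], [32,8,32], [32,12,8,6,4,8,32], [32,8,32,8,6,4,8,32]]

noncomputable def D : Dce where
  inv := 952403558328675698909383049765206550258025377119819542410299382538192440921227776
  m := 32
  T := 32
  TI := 33
  KL := [15,16,17,18,19,20,21,22,23,24,25,26,27,28,29]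
  ax := [[1], [3], [5], [7], [9], [11], [13]]
  sg := [[], [], [], [], [], [], [], [], [], [], [], [], [], [], [], [16], [15], [15], [20], [21], [18], [19], [22,15,16], [23,15,16], [26], [27], [24], [25], [29], [28]]
  chk := fixB P.img 32 P.bs
  pats := [([], false), ([33,32], false), ([32], true), ([33], true), ([32,30,32,30,32,30], false), ([31,33,31,33,31], true), ([32,7,3,5,1,7,5,9,7,32,7,3,5,1,7,5,9,7,32,7,3,5,1,7,5,9,7,32,7,3,5,1,7,5,9,7,32,7,3,5,1,7,5,9,7], false), ([8,10,6,8,2,6,4,8,33,8,10,6,8,2,6,4,8,33,8,10,6,8,2,6,4,8,33,8,10,6,8,2,6,4,8,33,8,10,6,8,2,6,4,8], true)]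
  gw := nthW gwL
  cl := cl


end Cfsg.H6.Co3.DW
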